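import Groth.Agent.MilnorK.K174.JThree
import Groth.Agent.MilnorK.K72.QSys

/-!
# Towers of covers from a Quillen system

`hS : K72.QSys.Sys p J R`.
* `exists_tower` : every `F` with `R 0 F` has a tower (`K174.JCov.Tower J p F`).
* `reg` : for EVERY tower `T` of `F` with `R 0 F`, `R n (T.Z n)` for `n ≤ p`.
* `homSurj` : `Tower.HomSurj` for every short exact sequence with terms in `R 0` (all of J2).
-/

set_option autoImplicit false

universe v u

open CategoryTheory CategoryTheory.Limits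

attribute [local instance] Abelian.hasFiniteBiproducts

namespace Groth.Agent.K477.JTower

open K174.JCov K72.QSys

variable {C : Type u} [Category.{v} C] [Abelian C]

theorem isCov_of_isCover {J G : C} {r : ℕ} {e : Pw J r ⟶ G} (h : IsCover J e) : IsCov e where
  epi := h.epi
  bij := ⟨fun _ y hxy => (h.bij (y ≫ e)).unique hxy rfl, fun y => (h.bij y).exists⟩

theorem isCover_of_isCov {J G : C} {r : ℕ} {e : Pw J r ⟶ G} (h : IsCov e) : IsCover J e where
  epi := h.epi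
  bij := fun g => h.bij.existsUnique g

/-- Two covers of isomorphic objects are isomorphic. -/
theorem exists_iso_cov {J G G' : C} {r s : ℕ} {e : Pw J r ⟶ G} {e' : Pw J s ⟶ G'} (h : IsCov e) (h' : IsCov e')
    (φ : G ≅ G') : ∃ ψ : Pw J r ≅ Pw J s, ψ.hom ≫ e' = e ≫ φ.hom := by
  refine ⟨⟨h'.lift (e ≫ φ.hom), h.lift (e' ≫ φ.inv), ?_, ?_⟩, h'.lift_e _⟩
  · apply h.hom_ext
    rw [Category.assoc, h.lift_e, ← Category.assoc, h'.lift_e, Category.assoc, φ.hom_inv_id, Category.comp_id,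
      Category.id_comp]
  · apply h'.hom_ext
    rw [Category.assoc, h'.lift_e, ← Category.assoc, h.lift_e, Category.assoc, φ.inv_hom_id, Category.comp_id,
      Category.id_comp]

theorem nonempty_kernel_iso {J G G' : C} {r s : ℕ} {e : Pw J r ⟶ G} {e' : Pw J s ⟶ G'} (h : IsCov e) (h' : IsCov e')
    (φ : G ≅ G') : Nonempty (kernel e ≅ kernel e') := by
  obtain ⟨ψ, hψ⟩ := exists_iso_cov h h' φ
  exact ⟨kernel.mapIso e e' ψ φ hψ.symm⟩

variable {J : ℕ → C} {p : ℕ} {R : ℕ → C → Prop} (hS : Sys p J R)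

include hS

theorem exists_tower (F : C) (hF : R 0 F) : Nonempty (Tower J p F) :=
  K174.JCov.exists_tower J p R (fun n Z hn hZ => by
    obtain ⟨r, e, he, hk⟩ := hS.cov n hn Z hZ
    exact ⟨r, e, isCov_of_isCover he, hk⟩) hS.zero F hF

/-- The syzygies of every tower are regular. -/
theorem reg {F : C} (T : Tower J p F) (hF : R 0 F) : ∀ n ≤ p, R n (T.Z n) := by
  intro n
  induction n with
  | zero => intro _; exact hS.iso 0 _ _ ⟨T.iso.symm⟩ hF
  | succ n ih =>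
    intro hn
    obtain ⟨r, e, he, hk⟩ := hS.cov n (by omega) _ (ih (by omega))
    obtain ⟨ψ⟩ := nonempty_kernel_iso (isCov_of_isCover he) (T.cov n) (Iso.refl _)
    refine hS.iso (n + 1) _ _ ⟨ψ ≪≫ ?_⟩ hk
    exact (kernelIsKernel (T.e n)).conePointUniqueUpToIso (T.se n).fIsKernel

omit hS

variable {F₁ F₂ F₃ : C} {T₁ : Tower J p F₁} {T₂ : Tower J p F₂} {T₃ : Tower J p F₃}
  {a : F₁ ⟶ F₂} {a' : F₂ ⟶ F₃} (w : a ≫ a' = 0)

/-- Local form of `K174.JCov.Tower.splitting_of_scZ`. -/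
theorem splitting_of_scZ (n : ℕ)
    (hs : ∀ y : J n ⟶ T₃.Z n, ∃ x : J n ⟶ T₂.Z n, x ≫ Tower.mapZ T₂ T₃ a' n = y)
    (h : (Tower.scZ T₁ T₂ T₃ w n).ShortExact) :
    Nonempty (Tower.scP T₁ T₂ T₃ w n).Splitting := by
  have hm : Mono (Tower.mapZ T₁ T₂ a n) := h.mono_f
  refine nonempty_splitting _ (fun x hx => ?_) (fun x hx => ?_) (fun x => ?_)
  · apply (T₁.cov n).bij.1
    change x ≫ T₁.e n = 0 ≫ T₁.e n
    rw [zero_comp, ← cancel_mono (Tower.mapZ T₁ T₂ a n), Category.assoc, ← Tower.map_e, ← Category.assoc]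
    erw [hx]
    rw [zero_comp, zero_comp]
  · have h1 : (x ≫ T₂.e n) ≫ Tower.mapZ T₂ T₃ a' n = 0 := by
      rw [Category.assoc, ← Tower.map_e, ← Category.assoc]
      erw [hx]
      rw [zero_comp]
    obtain ⟨y, hy⟩ := (T₁.cov n).bij.2 (h.exact.lift (x ≫ T₂.e n) h1)
    refine ⟨y, (T₂.cov n).bij.1 ?_⟩
    change (y ≫ Tower.map T₁ T₂ a n) ≫ T₂.e n = x ≫ T₂.e n
    have hy' : y ≫ T₁.e n = h.exact.lift (x ≫ T₂.e n) h1 := hy
    rw [Category.assoc, Tower.map_e, ← Category.assoc, hy']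
    exact h.exact.lift_f _ _
  · obtain ⟨y, hy⟩ := hs (x ≫ T₃.e n)
    obtain ⟨z, hz⟩ := (T₂.cov n).bij.2 y
    have hz' : z ≫ T₂.e n = y := hz
    refine ⟨z, (T₃.cov n).bij.1 ?_⟩
    change (z ≫ Tower.map T₂ T₃ a' n) ≫ T₃.e n = x ≫ T₃.e n
    rw [Category.assoc, Tower.map_e, ← Category.assoc, hz', hy]

include hS

theorem shortExact_scZ (hse : (ShortComplex.mk a a' w).ShortExact) (h₁ : R 0 F₁) (h₂ : R 0 F₂) (h₃ : R 0 F₃) :
    ∀ n ≤ p, (Tower.scZ T₁ T₂ T₃ w n).ShortExact := by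
  intro n
  induction n with
  | zero =>
    intro _
    refine (ShortComplex.shortExact_iff_of_iso ?_).2 hse
    exact ShortComplex.isoMk T₁.iso T₂.iso T₃.iso (by simp [Tower.mapZ_zero]) (by simp [Tower.mapZ_zero])
  | succ n ih =>
    intro hn
    have h := ih (by omega)
    obtain ⟨σ⟩ := splitting_of_scZ w n (hS.lift n (by omega) _ h (reg hS T₁ h₁ n (by omega))
      (reg hS T₂ h₂ n (by omega)) (reg hS T₃ h₃ n (by omega))) h
    exact Tower.shortExact_scZ_succ w n h σ.shortExact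

/-- **J2** : `Hom(J_n, -)` of the rows of syzygies is surjective. -/
theorem homSurj (T₁ : Tower J p F₁) (T₂ : Tower J p F₂) (T₃ : Tower J p F₃)
    (hse : (ShortComplex.mk a a' w).ShortExact) (h₁ : R 0 F₁) (h₂ : R 0 F₂) (h₃ : R 0 F₃) :
    Tower.HomSurj T₂ T₃ a' := fun n hn =>
  hS.lift n hn _ (shortExact_scZ (T₁ := T₁) hS w hse h₁ h₂ h₃ n hn.le) (reg hS T₁ h₁ n hn.le)
    (reg hS T₂ h₂ n hn.le) (reg hS T₃ h₃ n hn.le)

end Groth.Agent.K477.JTower
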